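/-
Certificate data of a coset enumeration.
-/
import Cfsg.Agent.Lib.CosetEnum.Basic

set_option autoImplicit false
set_option maxRecDepth 1000000

namespace CfsgLib.CosetEnum.ONJZ

open CfsgLib.CosetEnum

/-- The packed facts. -/
noncomputable def facts : Tree :=
  (.leaf (nat_lit 0x2000003000010000030000200001300003000003000030000110000200003000003000002000010000220000200000100001000000))

/-- The parents of the cosets. -/
noncomputable def par : Tree :=
  (.leaf (nat_lit 0x2000001000000000000))

/-- The packed words. -/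
noncomputable def words : Tree :=
  (.node (.node (.node (.node (.node (.leaf (nat_lit 0x2)) (.leaf (nat_lit 0x121021212102121210212015))) (.node (.leaf (nat_lit 0x210003)) (.leaf (nat_lit 0x21003)))) (.node (.node (.leaf (nat_lit 0x21212121212121212121212121212121212121026)) (.leaf (nat_lit 0x10121210121210121210121210121210121210121202a))) (.leaf (nat_lit 0x12121212121212121212121212121212121212026)))) (.node (.node (.node (.leaf (nat_lit 0x2020004)) (.leaf (nat_lit 0x121210212121021212102015))) (.leaf (nat_lit 0x1010101010100c))) (.node (.node (.leaf (nat_lit 0x212121021212102121210015)) (.leaf (nat_lit 0x12101212101212101212101212101212101212101202a))) (.leaf (nat_lit 0x102121210212121021212015))))) (.node (.node (.node (.node (.leaf (nat_lit 0x10101010101000c)) (.leaf (nat_lit 0x212102121210212121021015))) (.node (.leaf (nat_lit 0x0)) (.leaf (nat_lit 0x102003)))) (.node (.node (.leaf (nat_lit 0x22002)) (.leaf (nat_lit 0x21012121012121012121012121012121012121012102a))) (.leaf (nat_lit 0x21212102121210212121015))))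 (.node (.node (.node (.leaf (nat_lit 0x11002)) (.leaf (nat_lit 0x1212101212101212101212101212101212101212102a))) (.leaf (nat_lit 0x202004))) (.node (.node (.leaf (nat_lit 0x12121012121012121012121012121012121012121002a)) (.leaf (nat_lit 0x21210121210121210121210121210121210121210102a))) (.leaf (nat_lit 0x210212121021212102121015))))))

/-- The certificate. -/
noncomputable def data : Data := ⟨3, facts, par, words, 0, 26⟩

/-- Representatives. -/
noncomputable def rep : Tree :=
  (.leaf (nat_lit 0x0))

/-- The rows of the table. -/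
noncomputable def tab : Tree :=
  (.leaf (nat_lit 0x0))

/-- The table. -/
noncomputable def table : Table := ⟨1, rep, tab, .leaf 0⟩

/-- The relators. -/
noncomputable def rels : List (List ℕ) := [[0, 0], [0, 1, 0, 1, 0, 1, 0, 1, 0, 1, 0, 1], [0, 2, 0, 2], [1, 1], [1, 2, 1, 2, 1, 2, 1, 2, 1, 2, 1, 2, 1, 2, 1, 2, 1, 2, 1, 2, 1, 2, 1, 2, 1, 2, 1, 2, 1, 2, 1, 2, 1, 2, 1, 2, 1, 2], [2, 2], [0, 1, 2, 1, 2, 1, 2, 0, 1, 2, 1, 2, 1, 2, 0, 1, 2, 1, 2, 1, 2], [0, 1, 2, 1, 2, 1, 0, 1, 2, 1, 2, 1, 0, 1, 2, 1, 2, 1, 0, 1, 2, 1, 2, 1, 0, 1, 2, 1, 2, 1, 0, 1, 2, 1, 2, 1, 0, 1, 2, 1, 2, 1], [0, 1, 2]]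

/-- The words generating the subgroup. -/
noncomputable def hw : List (List ℕ) := []

/-- The origin of the words. -/
noncomputable def rots : List (ℕ × ℕ) := [(0, 0), (1, 0), (2, 0), (3, 0), (4, 0), (5, 0), (6, 0), (7, 0), (8, 0), (10, 0), (1, 1), (2, 1), (4, 1), (6, 1), (6, 2), (6, 3), (6, 4), (6, 5), (6, 6), (7, 1), (7, 2), (7, 3), (7, 4), (7, 5), (8, 1), (8, 2)]

/-- The generators. -/
noncomputable def sel : List ℕ := [0, 1, 2]

end CfsgLib.CosetEnum.ONJZ
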