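/-
Certificate data of a coset enumeration.
-/
import Cfsg.Agent.Lib.CosetEnum.ONJZ.Data

set_option autoImplicit false
set_option maxRecDepth 1000000

namespace CfsgLib.CosetEnum.ONJZ

open CfsgLib.CosetEnum

/-- Justifications of the facts from 0. -/
noncomputable def just0 : List ℕ := [(nat_lit 0xfff), (nat_lit 0xfff), (nat_lit 0x100100100000001018), (nat_lit 0xfff), (nat_lit 0x2000030020010000000100b), (nat_lit 0x300000200003002019), (nat_lit 0x1000020000500003000010000400005000020000100003000050000000001000020000500003000010000400005000020000100003000050000000001000020000500003000010000400005000020000100003000050000000001000020000500003000010000400002a0000302a007), (nat_lit 0x60000400300000001000000), (nat_lit 0x600003000060000500007000020000700001000060000300006000050000700002000070000100006000030000600005000070000200007000010000600003000060000500007000020000700001000060000300006000050000700002000070000100006000030000600005000070000200007000010000600003000060000500007000020000700001000060000300006000050000700002000070000100006000030000600005000070000200007000010000600003000060000500004c00001026004), (nat_lit 0x80000700200000000000009)]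

theorem just0_ok : data.okChunk 0 just0 = true := by decide +kernel

theorem just0_len : just0.length = 10 := by decide +kernel

end CfsgLib.CosetEnum.ONJZ
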