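/-
Certificate data of a coset enumeration.
-/
import Cfsg.Agent.Lib.CosetEnum.ONJZ.Data

set_option autoImplicit false
set_option maxRecDepth 1000000

namespace CfsgLib.CosetEnum.ONJZ

open CfsgLib.CosetEnum

/-- Completion of the rows from 0. -/
noncomputable def rows0 : List (List ℕ) := [[(nat_lit 0x800000002), (nat_lit 0x900001002), (nat_lit 0x600003002)]]

theorem rows0_ok : okRows data table 10 0 rows0 = true := by decide +kernel

theorem rows0_len : rows0.length = 1 := by decide +kernel

end CfsgLib.CosetEnum.ONJZ
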